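import Cfsg.Agent.Lib.Classical.SpFourSquare.Main

/-!
`Sp₄`: assembling the cases, and the choice of the semisimple element.
-/

set_option autoImplicit false
set_option linter.unusedSectionVars false
set_option linter.unusedSimpArgs false
set_option linter.unnecessarySeqFocus false

namespace CfsgLib.SpFourSq

open Matrix Polynomial

variable {F : Type*} [Field F]

theorem act_neg (g : Sp4 F) (x : I4 → F) : act g (-x) = -act g x := mulVec_neg ..

/-- A frame splitting the eigenspaces of an involution. -/
theorem exists_split_frame (h2 : (2 : F) ≠ 0) (g : Sp4 F) (hgg : ∀ x, act g (act g x) = x)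
    (hg : ∀ e : F, (∀ x, act g x = e • x) → False) :
    ∃ M : Sp4 F, act g (act M (Pi.single (.inl 0) 1)) = act M (Pi.single (.inl 0) 1) ∧
      act g (act M (Pi.single (.inl 1) 1)) = -act M (Pi.single (.inl 1) 1) ∧
      act g (act M (Pi.single (.inr 0) 1)) = act M (Pi.single (.inr 0) 1) ∧
      act g (act M (Pi.single (.inr 1) 1)) = -act M (Pi.single (.inr 1) 1) := by
  obtain ⟨e, he0, hee⟩ : ∃ e, e ≠ 0 ∧ act g e = e := by
    by_contra hne
    push Not at hne
    refine hg (-1) fun x => ?_
    have h0 : x + act g x = 0 := by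
      by_contra h0
      exact hne _ h0 (by rw [act_add, hgg, add_comm])
    linear_combination (norm := module) h0
  obtain ⟨e', he0', hee'⟩ : ∃ e, e ≠ 0 ∧ act g e = -e := by
    by_contra hne
    push Not at hne
    refine hg 1 fun x => ?_
    have h0 : x - act g x = 0 := by
      by_contra h0
      exact hne _ h0 (by rw [act_sub, hgg, neg_sub])
    linear_combination (norm := module) -h0
  have hgi : ∀ x, act g⁻¹ x = act g x := fun x => by
    conv_lhs => rw [← hgg x]
    rw [act_inv_act]
  have cross : ∀ x y, act g x = x → act g y = -y → om x y = 0 := by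
    intro x y hx hy
    have := om_act g x y
    rw [hx, hy, om_neg_right] at this
    exact (mul_eq_zero.1 (show (2 : F) * om x y = 0 by linear_combination -this)).resolve_left h2
  obtain ⟨f₀, hf₀⟩ := exists_dual he0
  obtain ⟨f₀', hf₀'⟩ := exists_dual he0'
  set f := (2 : F)⁻¹ • (f₀ + act g f₀) with hf
  set f' := (2 : F)⁻¹ • (f₀' - act g f₀') with hf'
  have hfe : act g f = f := by rw [hf, act_smul, act_add, hgg, add_comm]
  have hfe' : act g f' = -f' := by rw [hf', act_smul, act_sub, hgg, ← smul_neg, neg_sub]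
  have hdual : om f e = 1 := by
    rw [hf, om_smul_left, om_add_left, om_act_left, hgi, hee, hf₀]; field_simp; norm_num
  have hdual' : om f' e' = 1 := by
    rw [hf', om_smul_left, om_sub_left, om_act_left, hgi, hee', om_neg_right, hf₀']
    field_simp; norm_num
  obtain ⟨M, h1, h2', h3, h4⟩ := exists_frame (cross e e' hee hee') hdual hdual'
    (cross f e' hfe hee') (by rw [om_swap e f', cross e f' hee hfe', neg_zero])
    (cross f f' hfe hfe')
  exact ⟨M, by rw [h1, hee], by rw [h2', hee'], by rw [h3, hfe], by rw [h4, hfe']⟩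

/-- Two non-scalar involutions are conjugate. -/
theorem invol_conj (h2 : (2 : F) ≠ 0) (g g' : Sp4 F) (hgg : ∀ x, act g (act g x) = x)
    (hgg' : ∀ x, act g' (act g' x) = x) (hg : ∀ e : F, (∀ x, act g x = e • x) → False)
    (hg' : ∀ e : F, (∀ x, act g' x = e • x) → False) : ∃ y : Sp4 F, g = y * g' * y⁻¹ := by
  obtain ⟨M, a1, a2, a3, a4⟩ := exists_split_frame h2 g hgg hg
  obtain ⟨N, b1, b2, b3, b4⟩ := exists_split_frame h2 g' hgg' hg'
  refine ⟨M * N⁻¹, ?_⟩
  have : M⁻¹ * g * M = N⁻¹ * g' * N := by
    refine mx_inj (Matrix.ext_of_mulVec_single fun i => ?_)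
    show act (M⁻¹ * g * M) _ = act (N⁻¹ * g' * N) _
    simp only [act_mul]
    rcases i with i | i <;> fin_cases i <;>
      simp only [Fin.zero_eta, Fin.mk_one, a1, a2, a3, a4, b1, b2, b3, b4] <;>
      simp [act_neg, act_inv_act]
  calc g = M * (M⁻¹ * g * M) * M⁻¹ := by group
    _ = M * (N⁻¹ * g' * N) * M⁻¹ := by rw [this]
    _ = _ := by group

/-- The existence of a suitable trace-zero block. -/
theorem exists_block [Finite F] {t d : F} (h : Param t d) (h2 : (2 : F) ≠ 0) :
    ∃ K : Matrix (Fin 2) (Fin 2) F, K.trace = 0 ∧ K.det = 1 ∧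
      (K.adjugate * cmp t d).trace = t := by
  have := Fintype.ofFinite F
  have hodd : Fintype.card F % 2 = 1 := by
    have : ringChar F ≠ 2 := fun e => h2 (by
      have := ringChar.Nat.cast_ringChar (R := F)
      rw [e] at this; exact_mod_cast this)
    exact FiniteField.odd_card_of_char_ne_two this
  have hΔ : t ^ 2 - 4 * d ≠ 0 := fun e => h.noRoot (t / 2) (by
    field_simp
    linear_combination -e)
  obtain ⟨s, m, hsm⟩ := FiniteField.exists_root_sum_quadratic
    (f := (Polynomial.X : F[X]) ^ 2)
    (g := Polynomial.C (-(t ^ 2 - 4 * d)) * Polynomial.X ^ 2 + Polynomial.C (-(4 * t)) * Polynomial.X +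
      Polynomial.C 4)
    (Polynomial.degree_X_pow 2) (Polynomial.degree_quadratic (neg_ne_zero.2 hΔ)) hodd
  simp at hsm
  set k := (s - t * m) / 2 with hk
  have heq : k * k + t * k * m + d * m * m - t * m + 1 = 0 := by
    rw [hk]; field_simp; linear_combination hsm
  refine ⟨!![k, m * d + k * t - t; m, -k], by simp [trace_fin_two], ?_, ?_⟩
  · rw [det_fin_two]; simp; linear_combination -heq
  · simp [trace_fin_two, adjugate_fin_two, cmp, Matrix.mul_apply, Fin.sum_univ_two]

/-- The involution case. -/
theorem good_of_involution [Finite F] {t d : F} (h : Param t d) (h2 : (2 : F) ≠ 0) (g : Sp4 F)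
    (hgg : ∀ x, act g (act g x) = x) (hg : ∀ e : F, (∀ x, act g x = e • x) → False) : Good h g := by
  obtain ⟨K, hK0, hK1, hK2⟩ := exists_block h h2
  obtain ⟨a, b, c, rfl⟩ : ∃ a b c : F, K = !![a, b; c, -a] := ⟨K 0 0, K 0 1, K 1 0, by
    rw [trace_fin_two] at hK0
    conv_lhs => rw [K.eta_fin_two, show K 1 1 = -K 0 0 by linear_combination hK0]⟩
  rw [det_fin_two] at hK1
  simp at hK1
  let J2 : Matrix (Fin 2) (Fin 2) F := !![0, -1; 1, 0]
  let g' : Sp4 F := ofBlocks !![a, b; c, -a] J2 (-((2 : F) • J2)) !![a, c; b, -a] (by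
    refine ⟨?_, ?_, ?_⟩ <;> ext i j <;> fin_cases i <;> fin_cases j <;>
      simp [J2, Matrix.mul_apply, Fin.sum_univ_two] <;>
      first
        | ring1
        | linear_combination hK1
        | linear_combination -hK1)
  have hsq : g' * g' = 1 := by
    apply mx_inj
    rw [mx_mul, mx_one]
    simp only [g', mx_ofBlocks, fromBlocks_multiply]
    rw [← fromBlocks_one, fromBlocks_inj]
    refine ⟨?_, ?_, ?_, ?_⟩ <;> ext i j <;> fin_cases i <;> fin_cases j <;>
      simp [J2, Matrix.mul_apply, Fin.sum_univ_two] <;>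
      first
        | ring1
        | linear_combination -hK1
  have hgg' : ∀ x, act g' (act g' x) = x := fun x => by rw [← act_mul, hsq, act_one]
  have hg' : ∀ e : F, (∀ x, act g' x = e • x) → False := by
    intro e he
    have := congrFun (he (Pi.single (.inr 0) 1)) (.inl 1)
    simp [act, g', J2] at this
  obtain ⟨y, rfl⟩ := invol_conj h2 g g' hgg hgg' hg hg'
  refine Good.conj (good_of_block h ?_ ?_) y
  · simp [g', det_fin_two]; linear_combination hK1
  · simpa [g'] using hK2

/-- The sign. -/
theorem negS_negS (g : Sp4 F) : negS (negS g) = g := mx_inj (neg_neg _)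

theorem good_or [Finite F] {t d : F} (h : Param t d) (g : Sp4 F)
    (hg : ∀ e : F, (∀ x, act g x = e • x) → False) : Good h g ∨ Good h (negS g) := by
  have hint : IsIntegral F (mx g) := ⟨(mx g).charpoly, (mx g).charpoly_monic, (mx g).aeval_self_charpoly⟩
  set m := minpoly F (mx g) with hm
  have hmon : m.Monic := minpoly.monic hint
  have hdeg : m.natDegree ≤ 4 := by
    refine (natDegree_le_of_dvd (Matrix.minpoly_dvd_charpoly _) (mx g).charpoly_monic.ne_zero).trans ?_
    rw [Matrix.charpoly_natDegree_eq_dim]; rfl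
  obtain ⟨u, hu⟩ := exists_vector_annihilator (mx g)
  have hzero : ∀ p : F[X], p.natDegree < m.natDegree → aeval (mx g) p *ᵥ u = 0 → p = 0 := by
    intro p hp h0
    by_contra hne
    exact absurd (natDegree_le_of_dvd (hu p h0) hne) (not_le.2 hp)
  have hpoly : ∀ (p : F[X]) (x : I4 → F), p.natDegree ≤ 3 → aeval (mx g) p *ᵥ x =
      p.coeff 0 • x + p.coeff 1 • act g x + p.coeff 2 • act g (act g x) +
        p.coeff 3 • act g (act g (act g x)) := by
    intro p x hp
    rw [aeval_eq_sum_range' (n := 4) (by omega)]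
    simp [Finset.sum_range_succ, add_mulVec, smul_mulVec, act_pow, act_val, Function.iterate_succ_apply']
  set v := act g u with hv
  have hgv : act g⁻¹ v = u := act_inv_act g u
  have hm0 : aeval (mx g) m = 0 := minpoly.aeval _ _
  have hq : ∀ a b c e : F, (C e * X ^ 3 + C c * X ^ 2 + C b * X + C a : F[X]).natDegree ≤ 3 ∧
      (C e * X ^ 3 + C c * X ^ 2 + C b * X + C a : F[X]).coeff 0 = a ∧
      (C e * X ^ 3 + C c * X ^ 2 + C b * X + C a : F[X]).coeff 1 = b ∧
      (C e * X ^ 3 + C c * X ^ 2 + C b * X + C a : F[X]).coeff 2 = c ∧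
      (C e * X ^ 3 + C c * X ^ 2 + C b * X + C a : F[X]).coeff 3 = e := by
    intro a b c e
    refine ⟨natDegree_cubic_le, ?_, ?_, ?_, ?_⟩ <;> simp [coeff_C, coeff_X]
  have hind4 : m.natDegree = 4 → ∀ a b c e : F, a • act g⁻¹ v + b • v + c • act g v +
      e • act g (act g v) = 0 → a = 0 ∧ b = 0 ∧ c = 0 ∧ e = 0 := by
    intro hd a b c e he
    obtain ⟨k0, k1, k2, k3, k4⟩ := hq a b c e
    have := hzero (C e * X ^ 3 + C c * X ^ 2 + C b * X + C a) (by omega) (by rw [hpoly _ _ k0, k1, k2, k3, k4, ← hv]; rw [hgv] at he; exact he)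
    exact ⟨k1 ▸ this ▸ coeff_zero 0, k2 ▸ this ▸ coeff_zero 1, k3 ▸ this ▸ coeff_zero 2,
      k4 ▸ this ▸ coeff_zero 3⟩
  by_cases h4 : m.natDegree = 4
  · refine .inl (good_of_segment h g v (fun a b c he => ?_) (.inl fun a b c e he => (hind4 h4 a b c e he).2.2.2))
    obtain ⟨ha, hb, hc, -⟩ := hind4 h4 a b c 0 (by simpa using he)
    exact ⟨ha, hb, hc⟩
  have hrel : ∀ x, m.coeff 0 • x + m.coeff 1 • act g x + m.coeff 2 • act g (act g x) +
      m.coeff 3 • act g (act g (act g x)) = 0 := fun x => by
    rw [← hpoly m x (by omega), hm0, zero_mulVec]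
  set n0 := m.coeff 0
  set n1 := m.coeff 1
  set n2 := m.coeff 2
  have hlead : m.coeff m.natDegree = 1 := hmon
  by_cases h3 : m.natDegree = 3
  · have e3 : m.coeff 3 = 1 := h3 ▸ hlead
    have hind : ∀ a b c : F, a • act g⁻¹ v + b • v + c • act g v = 0 → a = 0 ∧ b = 0 ∧ c = 0 := by
      intro a b c he
      obtain ⟨k0, k1, k2, k3, k4⟩ := hq a b c 0
      have hd2 : (C (0 : F) * X ^ 3 + C c * X ^ 2 + C b * X + C a : F[X]).natDegree < 3 := by
        rw [map_zero, zero_mul, zero_add]
        exact lt_of_le_of_lt natDegree_quadratic_le (by norm_num)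
      have := hzero (C (0 : F) * X ^ 3 + C c * X ^ 2 + C b * X + C a) (by omega) (by
        rw [hpoly _ _ k0, k1, k2, k3, k4, ← hv, zero_smul, add_zero]
        rw [hgv] at he; exact he)
      exact ⟨k1 ▸ this ▸ coeff_zero 0, k2 ▸ this ▸ coeff_zero 1, k3 ▸ this ▸ coeff_zero 2⟩
    rw [e3] at hrel
    -- the reversed relation
    have hrev : ∀ x, n0 • act g⁻¹ x + n1 • x + n2 • act g x + act g (act g x) = 0 := by
      intro x
      have := hrel (act g⁻¹ x)
      simpa [act_act_inv] using this
    have hinv3 : ∀ x, n0 • act g⁻¹ (act g⁻¹ x) + n1 • act g⁻¹ x + n2 • x + act g x = 0 := by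
      intro x
      have := hrev (act g⁻¹ x)
      simpa [act_act_inv] using this
    have hadj : ∀ x, n0 • act g (act g x) + n1 • act g x + n2 • x + act g⁻¹ x = 0 := by
      intro x
      by_contra hne
      obtain ⟨y, hy⟩ := exists_dual hne
      have := congrArg (fun z => om z x) (hinv3 y)
      simp only [om_add_left, om_smul_left, om_zero_left, om_act_left g⁻¹, inv_inv,
        om_act_left g, ] at this
      rw [om_add_right, om_add_right, om_add_right, om_smul_right, om_smul_right, om_smul_right] at hy
      exact one_ne_zero (α := F) (by linear_combination this - hy)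
    obtain ⟨c1, c2, c3⟩ := hind (1 - n0 * n0) (n2 - n0 * n1) (n1 - n0 * n2) (by
      have e1 := hadj v
      have e2 := hrev v
      linear_combination (norm := module) e1 - n0 • e2)
    rcases mul_self_eq_one_iff.1 (sub_eq_zero.1 c1).symm with e0 | e0
    · -- `n0 = 1`
      refine .inr (good_of_segment h (negS g) v (fun a b c he => ?_) (.inr ⟨n2, ?_⟩))
      · rw [negS_inv, act_negS, act_negS] at he
        obtain ⟨ha, hb, hc⟩ := hind (-a) b (-c) (by linear_combination (norm := module) he)
        exact ⟨neg_eq_zero.1 ha, hb, neg_eq_zero.1 hc⟩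
      · have e := hrev v
        rw [e0] at e c2
        rw [show n1 = n2 by linear_combination -c2] at e
        rw [negS_inv, act_negS, act_negS, act_negS, ← neg_one_smul F (act g v), act_smul]
        linear_combination (norm := module) e
    · refine .inl (good_of_segment h g v hind (.inr ⟨-n2, ?_⟩))
      have e := hrev v
      rw [e0] at e c2
      rw [show n1 = -n2 by linear_combination c2] at e
      linear_combination (norm := module) e
  have hd2 : m.natDegree ≤ 2 := by omega
  rw [coeff_eq_zero_of_natDegree_lt (show m.natDegree < 3 by omega)] at hrel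
  simp only [zero_smul, add_zero] at hrel
  have h22 : m.natDegree = 2 := by
    by_contra hne
    have e2 : n2 = 0 := coeff_eq_zero_of_natDegree_lt (by omega)
    rw [e2] at hrel
    simp only [zero_smul, add_zero] at hrel
    have e1 : n1 = 1 := by
      rcases Nat.lt_or_ge 0 m.natDegree with hp | hp
      · rw [show m.natDegree = 1 by omega] at hlead; exact hlead
      · exfalso
        have := hu 1
        have hm1 : m = 1 := (hmon.natDegree_eq_zero).1 (by omega)
        rw [hm1, map_one] at hm0
        exact one_ne_zero hm0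
    refine hg (-n0) fun x => ?_
    have := hrel x
    rw [e1] at this
    linear_combination (norm := module) this
  have e2 : n2 = 1 := by rw [h22] at hlead; exact hlead
  rw [e2] at hrel
  have hadj : ∀ x, n0 • act g (act g x) + n1 • act g x + x = 0 := by
    intro x
    by_contra hne
    obtain ⟨y, hy⟩ := exists_dual hne
    have h0 := hrel (act g⁻¹ (act g⁻¹ y))
    simp only [act_act_inv, one_smul] at h0
    have := congrArg (fun z => om z x) h0
    simp only [om_add_left, om_smul_left, om_zero_left, om_act_left g⁻¹, inv_inv] at this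
    rw [om_add_right, om_add_right, om_smul_right, om_smul_right] at hy
    exact one_ne_zero (α := F) (by linear_combination this - hy)
  have hns : ∀ a b : F, a • u + b • act g u = 0 → a = 0 ∧ b = 0 := by
    intro a b he
    obtain ⟨k0, k1, k2, k3, k4⟩ := hq a b 0 0
    have hd1 : (C (0 : F) * X ^ 3 + C 0 * X ^ 2 + C b * X + C a : F[X]).natDegree < 2 := by
      simp only [map_zero, zero_mul, zero_add]
      exact lt_of_le_of_lt natDegree_linear_le (by norm_num)
    have := hzero (C (0 : F) * X ^ 3 + C 0 * X ^ 2 + C b * X + C a) (by omega) (by rw [hpoly _ _ k0, k1, k2, k3, k4]; simpa using he)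
    exact ⟨k1 ▸ this ▸ coeff_zero 0, k2 ▸ this ▸ coeff_zero 1⟩
  obtain ⟨c1, c2⟩ := hns (1 - n0 * n0) (n1 - n0 * n1) (by
    have a1 := hadj u
    have a2 := hrel u
    linear_combination (norm := module) a1 - n0 • a2)
  by_cases hn : n0 = 1
  · have hc : ∀ x, act g x + act g⁻¹ x = (-n1) • x := fun x => by
      have := hrel (act g⁻¹ x)
      rw [hn, act_act_inv, one_smul, one_smul] at this
      linear_combination (norm := module) this
    by_cases hbad : -n1 = -2 ∧ (2 : F) ≠ 0
    · refine .inr (good_of_scalar_trace h (negS g) n1 (fun x => ?_) (fun e => ?_) fun e he => ?_)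
      · rw [negS_inv, act_negS, act_negS]
        linear_combination (norm := module) -(hc x)
      · have := hbad.1
        exact mul_self_eq_zero.1 (by linear_combination e + this)
      · exact hg (-e) fun x => by
          have := he x
          rw [act_negS] at this
          linear_combination (norm := module) -this
    · exact .inl (good_of_scalar_trace h g (-n1) hc
        (fun e => by_contra fun h2 => hbad ⟨e, h2⟩) hg)
  · have hn' : n0 = -1 := (mul_self_eq_one_iff.1 (sub_eq_zero.1 c1).symm).resolve_left hn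
    have h2 : (2 : F) ≠ 0 := fun e => hn (by linear_combination hn' - e)
    have hn1 : n1 = 0 := by
      rw [hn'] at c2
      exact (mul_eq_zero.1 (show (2 : F) * n1 = 0 by linear_combination c2)).resolve_left h2
    refine .inl (good_of_involution h h2 g (fun x => ?_) hg)
    have := hrel x
    rw [hn', hn1] at this
    linear_combination (norm := module) this

/-- Parameters exist as soon as the field has three elements. -/
theorem exists_param [Fintype F] (h3 : 3 ≤ Fintype.card F) : ∃ t d : F, Param t d := by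
  classical
  obtain ⟨d, -, hd⟩ : ∃ d ∈ (Finset.univ : Finset F), d ∉ ({0, 1} : Finset F) :=
    Finset.exists_mem_notMem_of_card_lt_card (lt_of_le_of_lt Finset.card_le_two (by
      rw [Finset.card_univ]; omega))
  simp at hd
  obtain ⟨t, -, ht⟩ : ∃ t ∈ (Finset.univ : Finset F),
      t ∉ (Finset.univ.erase (0 : F)).image fun x => x + d / x :=
    Finset.exists_mem_notMem_of_card_lt_card (lt_of_le_of_lt Finset.card_image_le
      (Finset.card_erase_lt_of_mem (Finset.mem_univ 0)))
  simp at ht
  refine ⟨t, d, fun x hx => ?_, hd.2, fun e ht0 => ht 1 one_ne_zero (by rw [e, ht0]; simp)⟩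
  by_cases hx0 : x = 0
  · subst hx0; exact hd.1 (by simpa using hx)
  · exact ht x hx0 (by field_simp; linear_combination hx)

/-- The chosen element has order prime to the characteristic. -/
theorem exists_order [Fintype F] (p : ℕ) [Fact p.Prime] [CharP F p] {t d : F} (h : Param t d) :
    ∃ n : ℕ, ¬ p ∣ n ∧ D h ^ n = 1 := by
  let f : F[X] := X ^ 2 + C (-t) * X + C d
  have hf2 : f.natDegree = 2 := by
    have : f = C 1 * X ^ 2 + C (-t) * X + C d := by simp [f]
    rw [this]; exact natDegree_quadratic one_ne_zero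
  have hirr : Irreducible f := by
    rw [irreducible_iff_roots_eq_zero_of_degree_le_three (by omega) (by omega),
      Multiset.eq_zero_iff_forall_notMem]
    intro x hx
    rw [mem_roots'] at hx
    have := hx.2
    simp [f] at this
    exact h.noRoot x (by linear_combination this)
  have : Fact (Irreducible f) := ⟨hirr⟩
  have hf0 : f ≠ 0 := hirr.ne_zero
  have : Module.Finite F (AdjoinRoot f) := (AdjoinRoot.powerBasis hf0).finite
  have : Finite (AdjoinRoot f) := Module.finite_of_finite F
  have := Fintype.ofFinite (AdjoinRoot f)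
  have hB : aeval (cmp t d) f = 0 := by
    simp only [f, map_add, map_mul, map_pow, aeval_X, aeval_C]
    ext i j
    fin_cases i <;> fin_cases j <;>
      simp [cmp, pow_two, Matrix.mul_apply, Fin.sum_univ_two, Matrix.algebraMap_matrix_apply] <;> ring
  have hne : AdjoinRoot.root f ≠ 0 := by
    intro e
    have hd : f ∣ X := AdjoinRoot.mk_eq_zero.1 (AdjoinRoot.mk_X.trans e)
    have := natDegree_le_of_dvd hd X_ne_zero
    rw [hf2, natDegree_X] at this
    omega
  refine ⟨Fintype.card (AdjoinRoot f) - 1, ?_, ?_⟩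
  · intro hdvd
    have hK : CharP (AdjoinRoot f) p := charP_of_injective_algebraMap (algebraMap F _).injective p
    obtain ⟨k, -, hk⟩ := FiniteField.card (AdjoinRoot f) p
    have h1 : p ∣ Fintype.card (AdjoinRoot f) := hk ▸ dvd_pow_self p k.pos.ne'
    have h2 := Nat.dvd_sub h1 hdvd
    rw [Nat.sub_sub_self (Fintype.card_pos)] at h2
    exact (Fact.out : p.Prime).not_dvd_one h2
  · set n := Fintype.card (AdjoinRoot f) - 1
    have hBn : cmp t d ^ n = 1 := by
      have hd : f ∣ X ^ n - 1 := by
        refine AdjoinRoot.mk_eq_zero.1 ?_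
        rw [map_sub, map_pow, AdjoinRoot.mk_X, map_one, FiniteField.pow_card_sub_one_eq_one _ hne,
          sub_self]
      obtain ⟨k, hk⟩ := hd
      have := congrArg (aeval (cmp t d)) hk
      rwa [map_mul, hB, zero_mul, map_sub, map_pow, aeval_X, map_one, sub_eq_zero] at this
    have key : ∀ k : ℕ, mx (D h ^ k) = fromBlocks (cmp t d ^ k) 0 0 ((cmp t d)⁻¹ᵀ ^ k) := by
      intro k
      induction k with
      | zero => rw [pow_zero, mx_one]; simp [fromBlocks_one]
      | succ k ih => rw [pow_succ, mx_mul, ih]; simp [D, fromBlocks_multiply, pow_succ]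
    have h1' : mx (1 : Sp4 F) = fromBlocks 1 0 0 1 := by rw [mx_one, fromBlocks_one]
    refine diag_ext ?_ ?_ ?_ ?_ ?_ <;>
      simp only [key, h1', hBn, toBlocks_fromBlocks₁₁, toBlocks_fromBlocks₁₂, toBlocks_fromBlocks₂₁]

theorem negS_one_central : negS (1 : Sp4 F) ∈ Subgroup.center (Sp4 F) := by
  refine Subgroup.mem_center_iff.2 fun z => mx_inj ?_
  rw [mx_mul, mx_mul]
  simp [negS, mx_one]

theorem negS_eq (g : Sp4 F) : negS g = negS 1 * g := mx_inj (by rw [mx_mul]; simp [negS, mx_one])

end CfsgLib.SpFourSq
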