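import Mathlib

/-!
`Sp₄`: an element whose upper left block has determinant one and compatible trace is a product of
two conjugates of `diag(B, B^{-T})`.
-/

set_option autoImplicit false
set_option linter.unusedSectionVars false
set_option linter.unusedSimpArgs false

namespace CfsgLib.SpFourSq

open Matrix

variable {F : Type*} [Field F]

/-- The index set. -/
abbrev I4 : Type := Fin 2 ⊕ Fin 2

/-- The group. -/
abbrev Sp4 (F : Type*) [Field F] : Type _ := symplecticGroup (Fin 2) F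

/-- The underlying matrix. -/
abbrev mx (g : Sp4 F) : Matrix I4 I4 F := (g : Matrix I4 I4 F)

theorem mx_mul (g h : Sp4 F) : mx (g * h) = mx g * mx h := rfl

theorem mx_one : mx (1 : Sp4 F) = 1 := rfl

theorem mx_inj {g h : Sp4 F} (e : mx g = mx h) : g = h := Subtype.ext e

theorem mem_blocks_iff {P Q R S : Matrix (Fin 2) (Fin 2) F} :
    fromBlocks P Q R S ∈ symplecticGroup (Fin 2) F ↔
      Pᵀ * R = Rᵀ * P ∧ Qᵀ * S = Sᵀ * Q ∧ Pᵀ * S - Rᵀ * Q = 1 :=
  SymplecticGroup.fromBlocks_mem_iff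

@[simp]
theorem mx_mk (A : Matrix I4 I4 F) (hA : A ∈ symplecticGroup (Fin 2) F) :
    mx (⟨A, hA⟩ : Sp4 F) = A := rfl

/-- An element from blocks. -/
def ofBlocks (P Q R S : Matrix (Fin 2) (Fin 2) F)
    (h : Pᵀ * R = Rᵀ * P ∧ Qᵀ * S = Sᵀ * Q ∧ Pᵀ * S - Rᵀ * Q = 1) : Sp4 F :=
  ⟨fromBlocks P Q R S, mem_blocks_iff.2 h⟩

@[simp]
theorem mx_ofBlocks (P Q R S : Matrix (Fin 2) (Fin 2) F) (h) :
    mx (ofBlocks P Q R S h) = fromBlocks P Q R S := rfl

theorem blocks_spec (g : Sp4 F) :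
    (mx g).toBlocks₁₁ᵀ * (mx g).toBlocks₂₁ = (mx g).toBlocks₂₁ᵀ * (mx g).toBlocks₁₁ ∧
      (mx g).toBlocks₁₂ᵀ * (mx g).toBlocks₂₂ = (mx g).toBlocks₂₂ᵀ * (mx g).toBlocks₁₂ ∧
      (mx g).toBlocks₁₁ᵀ * (mx g).toBlocks₂₂ - (mx g).toBlocks₂₁ᵀ * (mx g).toBlocks₁₂ = 1 := by
  refine mem_blocks_iff.1 ?_
  rw [fromBlocks_toBlocks]
  exact g.2

/-- Block diagonal elements are determined by their first block. -/
theorem diag_ext {g h : Sp4 F} (g12 : (mx g).toBlocks₁₂ = 0) (g21 : (mx g).toBlocks₂₁ = 0)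
    (h12 : (mx h).toBlocks₁₂ = 0) (h21 : (mx h).toBlocks₂₁ = 0)
    (e : (mx g).toBlocks₁₁ = (mx h).toBlocks₁₁) : g = h := by
  have a := (blocks_spec g).2.2
  have b := (blocks_spec h).2.2
  rw [g21, transpose_zero, Matrix.zero_mul, sub_zero] at a
  rw [h21, transpose_zero, Matrix.zero_mul, sub_zero] at b
  have hS : (mx g).toBlocks₂₂ = (mx h).toBlocks₂₂ := by
    have a' := mul_eq_one_comm.1 a
    calc (mx g).toBlocks₂₂ = (mx g).toBlocks₂₂ * ((mx h).toBlocks₁₁ᵀ * (mx h).toBlocks₂₂) := by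
          rw [b, Matrix.mul_one]
      _ = _ := by rw [← e, ← Matrix.mul_assoc, a', Matrix.one_mul]
  apply mx_inj
  rw [← fromBlocks_toBlocks (mx g), ← fromBlocks_toBlocks (mx h), g12, g21, h12, h21, e, hS]

/-- The companion matrix. -/
def cmp (t d : F) : Matrix (Fin 2) (Fin 2) F := !![0, -d; 1, t]

/-- The parameters of the chosen class. -/
structure Param (t d : F) : Prop where
  noRoot : ∀ x : F, x * x - t * x + d ≠ 0
  d_ne : d ≠ 1
  t_ne : d = -1 → t ≠ 0

theorem Param.d_ne_zero {t d : F} (h : Param t d) : d ≠ 0 := fun e => h.noRoot 0 (by simp [e])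

theorem det_cmp (t d : F) : (cmp t d).det = d := by simp [cmp, det_fin_two]

theorem isUnit_cmp {t d : F} (h : Param t d) : IsUnit (cmp t d).det :=
  isUnit_iff_ne_zero.2 (by rw [det_cmp]; exact h.d_ne_zero)

/-- Same trace and determinant: similar. -/
theorem exists_similar {t d : F} (h : Param t d) {C : Matrix (Fin 2) (Fin 2) F} (ht : C.trace = t)
    (hd : C.det = d) : ∃ z : Matrix (Fin 2) (Fin 2) F, IsUnit z.det ∧ C * z = z * cmp t d := by
  rw [trace_fin_two] at ht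
  rw [det_fin_two] at hd
  refine ⟨!![1, C 0 0; 0, C 1 0], isUnit_iff_ne_zero.2 ?_, ?_⟩
  · simp only [det_fin_two, of_apply, cons_val', cons_val_zero, cons_val_one, empty_val',
      cons_val_fin_one, one_mul, mul_zero, sub_zero]
    intro e
    apply h.noRoot (C 0 0)
    rw [e] at hd
    rw [← ht, ← hd]
    ring
  · ext i j
    fin_cases i <;> fin_cases j <;> simp [cmp, Matrix.mul_apply, Fin.sum_univ_two]
    · linear_combination (C 0 0) * ht - hd
    · linear_combination (C 1 0) * ht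

/-- No fixed symmetric matrix. -/
theorem no_fix {t d : F} (h : Param t d) {X : Matrix (Fin 2) (Fin 2) F} (hs : Xᵀ = X)
    (hf : (cmp t d)ᵀ * X * cmp t d = X) : X = 0 := by
  have e10 : X 1 0 = X 0 1 := congrFun (congrFun hs 0) 1
  have a := congrFun (congrFun hf 0) 0
  have b := congrFun (congrFun hf 0) 1
  have c := congrFun (congrFun hf 1) 1
  simp [cmp, Matrix.mul_apply, Fin.sum_univ_two, e10] at a b c
  have hx : X 0 0 = 0 ∧ X 0 1 = 0 := by
    by_cases hd : d = -1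
    · subst hd
      have hx0 : t * X 0 0 = 0 := by rw [← a]; linear_combination b
      have hx : X 0 0 = 0 := (mul_eq_zero.1 hx0).resolve_left (h.t_ne rfl)
      refine ⟨hx, ?_⟩
      have h2 : (2 : F) ≠ 0 := fun e => h.d_ne (by linear_combination -e)
      have : 2 * t * X 0 1 = 0 := by linear_combination c - (t ^ 2 - 1) * a - t ^ 2 * hx
      rcases mul_eq_zero.1 this with h' | h'
      · exact absurd h' (mul_ne_zero h2 (h.t_ne rfl))
      · exact h'
    · have hd' : 1 + d ≠ 0 := fun e => hd (by linear_combination e)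
      have key : (1 - d) * (t - (1 + d)) * (t + (1 + d)) * X 0 0 = 0 := by
        linear_combination (1 + d) * c + (-2 * d * t) * b
          + (-(t ^ 2 - 1) * (1 + d) + 2 * d * t * t) * a
      have hx : X 0 0 = 0 := by
        rcases mul_eq_zero.1 key with h' | h'
        · rcases mul_eq_zero.1 h' with h' | h'
          · rcases mul_eq_zero.1 h' with h' | h'
            · exact absurd (by linear_combination -h') h.d_ne
            · exact absurd (by linear_combination -h') (h.noRoot 1)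
          · exact absurd (by linear_combination h') (h.noRoot (-1))
        · exact h'
      refine ⟨hx, ?_⟩
      have : (1 + d) * X 0 1 = 0 := by linear_combination t * hx + t * a - b
      exact (mul_eq_zero.1 this).resolve_left hd'
  ext i j
  fin_cases i <;> fin_cases j <;> simp [hx.1, hx.2, e10]
  rw [a, hx.1]

theorem transpose_mul_inv {t d : F} (h : Param t d) :
    (cmp t d)ᵀ * (cmp t d)⁻¹ᵀ = 1 := by
  rw [← transpose_mul, nonsing_inv_mul _ (isUnit_cmp h), transpose_one]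

/-- The chosen element `diag(B, B^{-T})`. -/
noncomputable def D {t d : F} (h : Param t d) : Sp4 F :=
  ofBlocks (cmp t d) 0 0 (cmp t d)⁻¹ᵀ ⟨by simp, by simp, by simp [transpose_mul_inv h]⟩

theorem D_blocks {t d : F} (h : Param t d) :
    (mx (D h)).toBlocks₁₁ = cmp t d ∧ (mx (D h)).toBlocks₁₂ = 0 ∧ (mx (D h)).toBlocks₂₁ = 0 :=
  ⟨rfl, rfl, rfl⟩

theorem eq_fromBlocks (g : Sp4 F) : mx g = fromBlocks (mx g).toBlocks₁₁ (mx g).toBlocks₁₂
    (mx g).toBlocks₂₁ (mx g).toBlocks₂₂ := (fromBlocks_toBlocks _).symm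

/-- A block diagonal element with similar first block is conjugate to `D`. -/
theorem diag_conj {t d : F} (h : Param t d) {g : Sp4 F} (g12 : (mx g).toBlocks₁₂ = 0)
    (g21 : (mx g).toBlocks₂₁ = 0) (ht : (mx g).toBlocks₁₁.trace = t)
    (hd : (mx g).toBlocks₁₁.det = d) : ∃ u : Sp4 F, g = u * D h * u⁻¹ := by
  obtain ⟨z, hz, e⟩ := exists_similar h ht hd
  let u : Sp4 F := ofBlocks z 0 0 z⁻¹ᵀ
    ⟨by simp, by simp, by simp [← transpose_mul, nonsing_inv_mul _ hz]⟩
  refine ⟨u, eq_mul_inv_of_mul_eq ?_⟩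
  have e1 : mx (g * u) = fromBlocks ((mx g).toBlocks₁₁ * z) 0 0 ((mx g).toBlocks₂₂ * z⁻¹ᵀ) := by
    rw [mx_mul, eq_fromBlocks g, g12, g21]
    simp [u, fromBlocks_multiply]
  have e2 : mx (u * D h) = fromBlocks (z * cmp t d) 0 0 (z⁻¹ᵀ * (cmp t d)⁻¹ᵀ) := by
    rw [mx_mul]
    simp [u, D, fromBlocks_multiply]
  apply diag_ext <;> simp only [e1, e2, toBlocks_fromBlocks₁₁, toBlocks_fromBlocks₁₂,
    toBlocks_fromBlocks₂₁, e]

/-- A lower triangular element with similar first block is conjugate to `D`. -/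
theorem lower_conj [Finite F] {t d : F} (h : Param t d) {g : Sp4 F} (g12 : (mx g).toBlocks₁₂ = 0)
    (ht : (mx g).toBlocks₁₁.trace = t) (hd : (mx g).toBlocks₁₁.det = d) :
    ∃ u : Sp4 F, g = u * D h * u⁻¹ := by
  obtain ⟨z, hz, ez⟩ := exists_similar h ht hd
  obtain ⟨s1, -, s3⟩ := blocks_spec g
  rw [g12, Matrix.mul_zero, sub_zero] at s3
  set C := (mx g).toBlocks₁₁ with hC
  set R := (mx g).toBlocks₂₁ with hR
  set S := (mx g).toBlocks₂₂ with hS
  let Sy := {X : Matrix (Fin 2) (Fin 2) F // Xᵀ = X}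
  let f : Sy → Sy := fun X => ⟨Cᵀ * X.1 * C - X.1, by
    simp [transpose_sub, transpose_mul, X.2, Matrix.mul_assoc]⟩
  have finj : Function.Injective f := by
    intro X Y hXY
    have e : Cᵀ * (X.1 - Y.1) * C = X.1 - Y.1 := by
      have := congrArg Subtype.val hXY
      simp only [f] at this
      rw [Matrix.mul_sub, Matrix.sub_mul]
      linear_combination (norm := abel) this
    have e' : (cmp t d)ᵀ * (zᵀ * (X.1 - Y.1) * z) * cmp t d = zᵀ * (X.1 - Y.1) * z := by
      calc _ = (z * cmp t d)ᵀ * (X.1 - Y.1) * (z * cmp t d) := by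
            simp [transpose_mul, Matrix.mul_assoc]
        _ = zᵀ * (Cᵀ * (X.1 - Y.1) * C) * z := by
            rw [← ez]; simp [transpose_mul, Matrix.mul_assoc]
        _ = _ := by rw [e]
    have e0 := no_fix h (by simp [transpose_sub, transpose_mul, X.2, Y.2, Matrix.mul_assoc]) e'
    have hz' : z * z⁻¹ = 1 := mul_nonsing_inv _ hz
    have : X.1 - Y.1 = 0 := by
      calc X.1 - Y.1 = (z * z⁻¹)ᵀ * (X.1 - Y.1) * (z * z⁻¹) := by simp [hz']
        _ = z⁻¹ᵀ * (zᵀ * (X.1 - Y.1) * z) * z⁻¹ := by simp [transpose_mul, Matrix.mul_assoc]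
        _ = 0 := by simp [e0]
    exact Subtype.ext (sub_eq_zero.1 this)
  obtain ⟨X, hX⟩ := (Finite.surjective_of_injective finj) ⟨Cᵀ * R, by
    rw [transpose_mul, transpose_transpose, ← s1]⟩
  have hX' : Cᵀ * X.1 * C - X.1 = Cᵀ * R := congrArg Subtype.val hX
  let L : Sp4 F := ofBlocks 1 0 X.1 1 ⟨by simp [X.2], by simp, by simp⟩
  let g₀ : Sp4 F := ofBlocks C 0 0 S ⟨by simp, by simp, by simp [s3]⟩
  obtain ⟨u, hu⟩ := diag_conj h (g := g₀) rfl rfl ht hd
  have key : g * L = L * g₀ := by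
    apply mx_inj
    rw [mx_mul, mx_mul, eq_fromBlocks g, g12, ← hC, ← hR, ← hS]
    simp only [L, g₀, mx_ofBlocks, fromBlocks_multiply, Matrix.mul_one, Matrix.one_mul,
      Matrix.mul_zero, Matrix.zero_mul, add_zero, zero_add]
    congr 1
    have s3' : S * Cᵀ = 1 := mul_eq_one_comm.1 s3
    calc R + S * X.1 = S * (Cᵀ * R + X.1) := by
          rw [Matrix.mul_add, ← Matrix.mul_assoc, s3', Matrix.one_mul]
      _ = S * (Cᵀ * X.1 * C) := by rw [← hX', sub_add_cancel]
      _ = X.1 * C := by rw [← Matrix.mul_assoc, ← Matrix.mul_assoc, s3', Matrix.one_mul]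
  refine ⟨L * u, ?_⟩
  rw [eq_mul_inv_of_mul_eq key, hu]
  group

/-- An upper triangular element with similar last block is conjugate to `D`. -/
theorem upper_conj [Finite F] {t d : F} (h : Param t d) {g : Sp4 F} (g21 : (mx g).toBlocks₂₁ = 0)
    (ht : (mx g).toBlocks₂₂.trace = t) (hd : (mx g).toBlocks₂₂.det = d) :
    ∃ u : Sp4 F, g = u * D h * u⁻¹ := by
  set P := (mx g).toBlocks₁₁
  set Q := (mx g).toBlocks₁₂
  set S := (mx g).toBlocks₂₂
  obtain ⟨-, s2, s3⟩ := blocks_spec g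
  rw [g21, transpose_zero, Matrix.zero_mul, sub_zero] at s3
  have s3' : Sᵀ * P = 1 := by
    have := congrArg Matrix.transpose s3
    simpa [transpose_mul] using this
  let g' : Sp4 F := ofBlocks S 0 (-Q) P
    ⟨by rw [transpose_neg, Matrix.neg_mul, Matrix.mul_neg, s2], by simp, by simp [s3']⟩
  obtain ⟨u, hu⟩ := lower_conj h (g := g') rfl ht hd
  let W : Sp4 F := ⟨Matrix.J (Fin 2) F, SymplecticGroup.J_mem (Fin 2) F⟩
  have key : W * g = g' * W := by
    apply mx_inj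
    rw [mx_mul, mx_mul, eq_fromBlocks g, g21]
    rw [show mx W = Matrix.J (Fin 2) F from rfl]
    simp [g', Matrix.J, fromBlocks_multiply, P, Q, S]
  refine ⟨W⁻¹ * u, ?_⟩
  rw [show g = W⁻¹ * (W * g) by group, key, hu]
  group

/-- A product of two conjugates of `D`. -/
def Good {t d : F} (h : Param t d) (g : Sp4 F) : Prop :=
  ∃ u v : Sp4 F, g = (u * D h * u⁻¹) * (v * D h * v⁻¹)

theorem Good.conj {t d : F} {h : Param t d} {g : Sp4 F} (hg : Good h g) (y : Sp4 F) :
    Good h (y * g * y⁻¹) := by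
  obtain ⟨u, v, rfl⟩ := hg
  exact ⟨y * u, y * v, by group⟩

/-- The block criterion. -/
theorem good_of_block [Finite F] {t d : F} (h : Param t d) {g : Sp4 F}
    (h1 : (mx g).toBlocks₁₁.det = 1) (h2 : ((mx g).toBlocks₁₁.adjugate * cmp t d).trace = t) :
    Good h g := by
  set P := (mx g).toBlocks₁₁ with hP
  set Q := (mx g).toBlocks₁₂ with hQ
  set R := (mx g).toBlocks₂₁ with hR
  set S := (mx g).toBlocks₂₂ with hS
  obtain ⟨s1, -, s3⟩ := blocks_spec g
  have hu : IsUnit P.det := by rw [h1]; exact isUnit_one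
  have hPP : P * P⁻¹ = 1 := mul_nonsing_inv _ hu
  have hP' : P⁻¹ * P = 1 := nonsing_inv_mul _ hu
  have hX : (R * P⁻¹)ᵀ = R * P⁻¹ := by
    calc (R * P⁻¹)ᵀ = P⁻¹ᵀ * Rᵀ := transpose_mul ..
      _ = P⁻¹ᵀ * (Rᵀ * P) * P⁻¹ := by simp [Matrix.mul_assoc, hPP]
      _ = P⁻¹ᵀ * Pᵀ * R * P⁻¹ := by rw [← s1]; simp [Matrix.mul_assoc, hP, hR]
      _ = R * P⁻¹ := by rw [← transpose_mul, hPP, transpose_one, Matrix.one_mul]
  let L : Sp4 F := ofBlocks 1 0 (R * P⁻¹) 1 ⟨by simp [hX], by simp, by simp⟩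
  obtain ⟨u, hu'⟩ : ∃ u : Sp4 F, L * D h = u * D h * u⁻¹ := by
    refine lower_conj h ?_ ?_ ?_ <;>
      simp [mx_mul, L, D, fromBlocks_multiply, trace_fin_two, det_fin_two, cmp]
  let P₂ := (cmp t d)⁻¹ * P
  have hB : cmp t d * (cmp t d)⁻¹ = 1 := mul_nonsing_inv _ (isUnit_cmp h)
  have hB' : (cmp t d)ᵀ * (cmp t d)⁻¹ᵀ = 1 := transpose_mul_inv h
  let U : Sp4 F := (L * D h)⁻¹ * g
  have hUe : (L * D h) * U = g := mul_inv_cancel_left _ _
  have eU : fromBlocks (cmp t d) 0 (R * P⁻¹ * cmp t d) (cmp t d)⁻¹ᵀ * mx U = mx g := by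
    rw [← hUe, mx_mul (L * D h) U]
    congr 1
    simp [mx_mul, L, D, fromBlocks_multiply]
  rw [eq_fromBlocks U, eq_fromBlocks g, fromBlocks_multiply, fromBlocks_inj] at eU
  obtain ⟨u11, -, u21, -⟩ := eU
  rw [Matrix.zero_mul, add_zero] at u11
  have U11 : (mx U).toBlocks₁₁ = P₂ := by
    have := congrArg ((cmp t d)⁻¹ * ·) u11
    simpa [← Matrix.mul_assoc, nonsing_inv_mul _ (isUnit_cmp h), P₂] using this
  have U21 : (mx U).toBlocks₂₁ = 0 := by
    rw [Matrix.mul_assoc (R * P⁻¹), u11, Matrix.mul_assoc, ← hP, hP', Matrix.mul_one, ← hR,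
      add_eq_left] at u21
    have := congrArg ((cmp t d)ᵀ * ·) u21
    simpa [← Matrix.mul_assoc, hB'] using this
  have U22 : (mx U).toBlocks₂₂ = (P.adjugate * cmp t d)ᵀ := by
    have e := (blocks_spec U).2.2
    rw [U11, U21, transpose_zero, Matrix.zero_mul, sub_zero] at e
    have e' : (P.adjugate * cmp t d)ᵀ * P₂ᵀ = 1 := by
      rw [← transpose_mul]
      simp only [P₂, Matrix.mul_assoc]
      rw [← Matrix.mul_assoc P, mul_adjugate, h1, one_smul, Matrix.one_mul,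
        nonsing_inv_mul _ (isUnit_cmp h), transpose_one]
    calc (mx U).toBlocks₂₂ = (P.adjugate * cmp t d)ᵀ * P₂ᵀ * (mx U).toBlocks₂₂ := by
          rw [e', Matrix.one_mul]
      _ = _ := by rw [Matrix.mul_assoc, e, Matrix.mul_one]
  obtain ⟨v, hv⟩ := upper_conj h (g := U) U21 (by rw [U22, trace_transpose, h2])
    (by rw [U22, det_transpose, det_mul, det_adjugate, h1, det_cmp]; simp)
  exact ⟨u, v, by rw [← hu', ← hv, hUe]⟩

end CfsgLib.SpFourSq
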