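import Mathlib

/-!
A matrix has a vector whose annihilator is its minimal polynomial.
-/

set_option autoImplicit false

namespace CfsgLib.SpFourSq

open Polynomial Matrix

variable {F : Type*} [Field F] {n : Type*} [Fintype n] [DecidableEq n]

theorem exists_vector_annihilator (A : Matrix n n F) :
    ∃ u : n → F, ∀ p : F[X], aeval A p *ᵥ u = 0 → minpoly F A ∣ p := by
  classical
  have hint : IsIntegral F A := ⟨A.charpoly, A.charpoly_monic, A.aeval_self_charpoly⟩
  have hm : minpoly F A ≠ 0 := minpoly.ne_zero hint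
  suffices H : ∀ a : F[X], a ∣ minpoly F A →
      ∃ u : n → F, (∀ p : F[X], aeval A p *ᵥ u = 0 ↔ a ∣ p) from by
    obtain ⟨u, hu⟩ := H _ dvd_rfl
    exact ⟨u, fun p => (hu p).1⟩
  intro a
  induction a using UniqueFactorizationMonoid.induction_on_coprime with
  | h0 => intro h; exact absurd (zero_dvd_iff.1 h) hm
  | @h1 x hx =>
    intro _
    exact ⟨0, fun p => ⟨fun _ => hx.dvd, fun _ => mulVec_zero _⟩⟩
  | @hpr π i hπ =>
    intro hd
    rcases i with _ | i
    · exact ⟨0, fun p => ⟨fun _ => by simp, fun _ => mulVec_zero _⟩⟩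
    obtain ⟨e, he⟩ := hd
    have hne : aeval A (π ^ i * e) ≠ 0 := by
      intro h
      have hdd : minpoly F A ∣ π ^ i * e := minpoly.dvd F A h
      rw [he] at hdd hm
      have he0 : e ≠ 0 := right_ne_zero_of_mul hm
      have h2 : π ^ (i + 1) ∣ π ^ i := (mul_dvd_mul_iff_right he0).1 hdd
      exact absurd ((pow_dvd_pow_iff hπ.ne_zero hπ.not_isUnit).1 h2) (by omega)
    obtain ⟨w, hw⟩ : ∃ w, aeval A (π ^ i * e) *ᵥ w ≠ 0 := by
      by_contra h
      push Not at h
      exact hne (Matrix.ext_of_mulVec_single fun j => by rw [h, zero_mulVec])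
    refine ⟨aeval A e *ᵥ w, fun p => ⟨fun hp => ?_, fun ⟨c, hc⟩ => ?_⟩⟩
    · by_contra hnd
      apply hw
      obtain ⟨j, hj, hjp⟩ : ∃ j ≤ i, EuclideanDomain.gcd (π ^ (i + 1)) p ∣ π ^ j := by
        obtain ⟨j, hj, hass⟩ := (dvd_prime_pow hπ (i + 1)).1 (EuclideanDomain.gcd_dvd_left (π ^ (i + 1)) p)
        refine ⟨j, ?_, hass.dvd⟩
        by_contra hlt
        exact hnd ((pow_dvd_pow π (by omega)).trans (hass.symm.dvd.trans (EuclideanDomain.gcd_dvd_right _ _)))
      have hg := EuclideanDomain.gcd_eq_gcd_ab (π ^ (i + 1)) p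
      generalize EuclideanDomain.gcdA (π ^ (i + 1)) p = g₁ at hg
      generalize EuclideanDomain.gcdB (π ^ (i + 1)) p = g₂ at hg
      obtain ⟨q, hq⟩ := hjp
      have hk : π ^ i * e = π ^ (i - j) * q * g₁ * (π ^ (i + 1) * e) +
          π ^ (i - j) * q * g₂ * (p * e) := by
        rw [show π ^ i = π ^ (i - j) * π ^ j by rw [← pow_add, Nat.sub_add_cancel hj], hq, hg]
        ring
      rw [hk, map_add, add_mulVec, map_mul (aeval A) _ (π ^ (i + 1) * e), ← he, minpoly.aeval,
        mul_zero, zero_mulVec, zero_add, map_mul (aeval A) _ (p * e), map_mul (aeval A) p e,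
        ← mulVec_mulVec, ← mulVec_mulVec, hp, mulVec_zero]
    · rw [mulVec_mulVec, ← map_mul, hc, show π ^ (i + 1) * c * e = c * (π ^ (i + 1) * e) by ring,
        ← he, map_mul, minpoly.aeval, mul_zero, zero_mulVec]
  | @hcp x y hxy ihx ihy =>
    intro hd
    obtain ⟨u, hu⟩ := ihx ((dvd_mul_right x y).trans hd)
    obtain ⟨v, hv⟩ := ihy ((dvd_mul_left y x).trans hd)
    refine ⟨u + v, fun p => ⟨fun hp => ?_, fun hp => ?_⟩⟩
    · rw [mulVec_add] at hp
      have key : ∀ (z : F[X]) (w w' : n → F), aeval A z *ᵥ w' = 0 →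
          aeval A p *ᵥ w + aeval A p *ᵥ w' = 0 → aeval A (z * p) *ᵥ w = 0 := by
        intro z w w' hz h
        rw [map_mul, ← mulVec_mulVec, eq_neg_of_add_eq_zero_left h, mulVec_neg, mulVec_mulVec,
          ← map_mul, mul_comm, map_mul, ← mulVec_mulVec, hz, mulVec_zero, neg_zero]
      have hyu := key y u v ((hv y).2 dvd_rfl) hp
      have hxv := key x v u ((hu x).2 dvd_rfl) (by rwa [add_comm] at hp)
      exact hxy.mul_dvd (hxy.dvd_of_dvd_mul_left ((hu _).1 hyu))
        (hxy.symm.dvd_of_dvd_mul_left ((hv _).1 hxv))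
    · rw [mulVec_add, (hu p).2 ((dvd_mul_right x y).trans hp),
        (hv p).2 ((dvd_mul_left y x).trans hp), add_zero]

end CfsgLib.SpFourSq
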