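import Cfsg.Agent.Lib.Classical.SpFourSquare.Plane
import Cfsg.Agent.Lib.Classical.SpFourSquare.Cyclic

/-!
Every non-central element of `Sp₄` is, up to sign, a product of two conjugates of a fixed
semisimple element.
-/

set_option autoImplicit false
set_option linter.unusedSectionVars false
set_option linter.unusedSimpArgs false

namespace CfsgLib.SpFourSq

open Matrix

variable {F : Type*} [Field F]

theorem om_act_self (g : Sp4 F) (v : I4 → F) :
    om v (act g v + act g⁻¹ v) = 0 ∧
      om v (act g (act g v + act g⁻¹ v)) = om (act g v + act g⁻¹ v) (act g v) := by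
  refine ⟨?_, ?_⟩
  · rw [om_add_right, ← om_act_left g v v, om_swap v (act g v), add_neg_cancel]
  · rw [act_add, act_act_inv, om_add_right, om_self, add_zero, om_add_left, om_self, zero_add,
      om_act_left, inv_inv]

theorem act_val (g : Sp4 F) (x : I4 → F) : mx g *ᵥ x = act g x := rfl

theorem act_pow (g : Sp4 F) (x : I4 → F) (k : ℕ) : mx g ^ k *ᵥ x = (act g)^[k] x := by
  induction k with
  | zero => simp
  | succ k ih => rw [Function.iterate_succ_apply', pow_succ', ← mulVec_mulVec, ih]; rfl

/-- The case of an independent orbit segment. -/
theorem good_of_segment [Finite F] {t d : F} (h : Param t d) (g : Sp4 F) (v : I4 → F)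
    (hind : ∀ a b c : F, a • act g⁻¹ v + b • v + c • act g v = 0 → a = 0 ∧ b = 0 ∧ c = 0)
    (hnext : (∀ a b c e : F, a • act g⁻¹ v + b • v + c • act g v + e • act g (act g v) = 0 → e = 0) ∨
      ∃ γ : F, act g (act g v) = act g⁻¹ v + (-γ) • v + γ • act g v) :
    Good h g := by
  obtain ⟨h12, hcomm⟩ := om_act_self g v
  refine good_of_plane h g v (act g v + act g⁻¹ v) h12 hcomm ?_ ?_
  · intro r s e
    obtain ⟨h1, h2, -⟩ := hind s r s (by linear_combination (norm := module) e)
    exact ⟨h2, h1⟩
  · intro r s x y e
    simp only [act_add, act_smul, act_act_inv] at e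
    rcases hnext with hn | ⟨γ, hγ⟩
    · have hs : s = 0 := hn (-s - y) (-r + s - x) (r - s - y) s
        (by linear_combination (norm := module) e)
      subst hs
      obtain ⟨hy, -, hr⟩ := hind (-y) (-r - x) (r - y)
        (by linear_combination (norm := module) e)
      have hy' : y = 0 := neg_eq_zero.1 hy
      subst hy'
      rw [sub_zero] at hr
      subst hr
      simp [act_zero]
    · rw [hγ] at e
      obtain ⟨hy, hx, hr⟩ := hind (-y) (-r + s - x - s * γ) (r - s - y + s * γ)
        (by linear_combination (norm := module) e)
      have hy' : y = 0 := neg_eq_zero.1 hy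
      subst hy'
      have hx' : x = 0 := by linear_combination -hx - hr
      subst hx'
      simp only [act_add, act_smul, act_act_inv]
      rw [hγ]
      linear_combination (norm := module) e

/-- The case where `g + g⁻¹` is a scalar different from `-2`. -/
theorem good_of_scalar_trace [Finite F] {t d : F} (h : Param t d) (g : Sp4 F) (c : F)
    (hc : ∀ x, act g x + act g⁻¹ x = c • x) (hne : c = -2 → (2 : F) = 0)
    (hg : ∀ e : F, (∀ x, act g x = e • x) → False) : Good h g := by
  by_cases hv : ∃ v, om v (act g v) ≠ 0
  · obtain ⟨v, hp⟩ := hv
    set p := om v (act g v) with hpd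
    have hgg : act g (act g v) = c • act g v - v := by
      have := hc (act g v)
      rw [act_inv_act] at this
      exact eq_sub_of_add_eq this
    have hinv : act g⁻¹ v = c • v - act g v := eq_sub_of_add_eq' (hc v)
    have gproj : ∀ y, ∃ α β : F, om v (y - (α • v + β • act g v)) = 0 ∧
        om (act g v) (y - (α • v + β • act g v)) = 0 := by
      intro y
      refine ⟨-(om (act g v) y / p), om v y / p, ?_, ?_⟩
      · simp only [om_sub_right, om_add_right, om_smul_right, om_self, ← hpd]
        field_simp
        ring
      · simp only [om_sub_right, om_add_right, om_smul_right, om_self, om_swap v (act g v), ← hpd]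
        field_simp
        ring
    have horth : ∀ w, om v w = 0 → om (act g v) w = 0 →
        om v (act g w) = 0 ∧ om (act g v) (act g w) = 0 := by
      intro w h1 h2
      refine ⟨?_, by rw [om_act, h1]⟩
      rw [show om v (act g w) = om (act g⁻¹ v) w by rw [om_act_left, inv_inv], hinv, om_sub_left,
        om_smul_left, h1, h2, mul_zero, sub_zero]
    obtain ⟨w, hw0, hw1, hw2⟩ : ∃ w, w ≠ 0 ∧ om v w = 0 ∧ om (act g v) w = 0 := by
      by_contra hne'
      push Not at hne'
      let f : (Fin 2 → F) →ₗ[F] (I4 → F) :=
        { toFun := fun z => z 0 • v + z 1 • act g v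
          map_add' := fun z z' => by simp only [Pi.add_apply]; module
          map_smul' := fun k z => by simp only [Pi.smul_apply, RingHom.id_apply, smul_eq_mul]; module }
      have hsurj : Function.Surjective f := by
        intro y
        obtain ⟨α, β, h1, h2⟩ := gproj y
        refine ⟨![α, β], ?_⟩
        by_contra hy
        refine hne' _ (sub_ne_zero.2 fun e => hy ?_) h1 h2
        rw [e]; simp [f]
      have := LinearMap.finrank_le_finrank_of_surjective hsurj
      simp at this
    obtain ⟨w, hw0, hw1, hw2, hwk⟩ : ∃ w, w ≠ 0 ∧ om v w = 0 ∧ om (act g v) w = 0 ∧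
        ∀ k : F, act g w = k • w → act g w = w := by
      by_contra hne'
      push Not at hne'
      obtain ⟨k, hk, hk1⟩ := hne' w hw0 hw1 hw2
      obtain ⟨y₀, hy₀⟩ := exists_dual hw0
      obtain ⟨α, β, h1, h2⟩ := gproj y₀
      set w' := y₀ - (α • v + β • act g v) with hw'
      have hww : om w' w = 1 := by
        rw [hw', om_sub_left, om_add_left, om_smul_left, om_smul_left, hw1, hw2, hy₀]; ring
      have hw'0 : w' ≠ 0 := fun e => by rw [e, om_zero_left] at hww; exact zero_ne_one hww
      obtain ⟨k', hk', -⟩ := hne' w' hw'0 h1 h2
      have hsum0 : w + w' ≠ 0 := fun e => by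
        rw [eq_neg_of_add_eq_zero_right e, om_neg_left, om_self, neg_zero] at hww
        exact zero_ne_one hww
      obtain ⟨k'', hk'', -⟩ := hne' (w + w') hsum0 (by rw [om_add_right, hw1, h1, add_zero])
        (by rw [om_add_right, hw2, h2, add_zero])
      rw [act_add, hk, hk', smul_add] at hk''
      have hb := congrArg (fun z => om z w) hk''
      have ha := congrArg (fun z => om w' z) hk''
      simp only [om_add_left, om_add_right, om_smul_left, om_smul_right, om_self, hww, mul_zero,
        add_zero, zero_add, mul_one] at ha hb
      have hkk : k * k = 1 := by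
        have := om_act g w' w
        rw [hk, hk', om_smul_left, om_smul_right, hww, mul_one] at this
        rw [hb, ← ha] at this
        exact this
      have hk1' : k ≠ 1 := fun e => hk1 (by rw [hk, e, one_smul])
      have hkm : k = -1 := by
        rcases mul_self_eq_one_iff.1 hkk with e | e
        · exact absurd e hk1'
        · exact e
      have hcm : c = -2 := by
        have h3 := hc w
        have h4 : act g⁻¹ w = k • w := by
          rw [← act_inv_act g (k • w), act_smul, hk, smul_smul, hkk, one_smul]
        rw [hk, h4, ← add_smul, hkm] at h3
        have := smul_left_injective F hw0 h3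
        rw [← this]; ring
      exact hk1' (by linear_combination hkm - hne hcm)
    obtain ⟨hg1, hg2⟩ := horth w hw1 hw2
    refine good_of_plane h g v w hw1 ?_ ?_ ?_
    · rw [hg1, om_swap (act g v) w, hw2, neg_zero]
    · intro r s e
      have h1 := congrArg (om (act g v)) e
      rw [om_add_right, om_smul_right, om_smul_right, hw2, om_zero_right, om_swap v (act g v),
        ← hpd] at h1
      have hr : r = 0 := by simpa [hp] using h1
      rw [hr, zero_smul, zero_add] at e
      exact ⟨hr, (smul_eq_zero.1 e).resolve_right hw0⟩
    · intro r s x y e
      simp only [act_add, act_smul] at e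
      have h1 := congrArg (om v) e
      simp only [om_sub_right, om_add_right, om_smul_right, om_self, hw1, hg1, ← hpd] at h1
      have hr : r = 0 := by simpa [hp] using h1
      have h2 := congrArg (om (act g v)) e
      simp only [hr, om_sub_right, om_add_right, om_smul_right, hw2, hg2, om_swap v (act g v),
        ← hpd] at h2
      have hx : x = 0 := by simpa [hp] using h2
      subst hr hx
      simp only [zero_smul, zero_add] at e ⊢
      by_cases hs : s = 0
      · simp [hs, act_zero]
      · have : act g w = ((y + s) / s) • w := by
          rw [← smul_right_injective (I4 → F) hs |>.eq_iff, smul_smul, mul_div_cancel₀ _ hs]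
          linear_combination (norm := module) e
        rw [act_smul, hwk _ this]
  · push Not at hv
    have hpol : ∀ x y, om x (act g y) + om y (act g x) = 0 := by
      intro x y
      have := hv (x + y)
      simp only [act_add, om_add_left, om_add_right, hv x, hv y] at this
      linear_combination this
    have hgi : ∀ x, act g⁻¹ x = act g x := by
      intro x
      by_contra hne'
      obtain ⟨y, hy⟩ := exists_dual (sub_ne_zero.2 hne')
      rw [om_sub_right, ← om_act_left] at hy
      have := hpol y x
      rw [om_swap (act g y) x] at this
      exact one_ne_zero (α := F) (by linear_combination -hy + (-1 : F) * this)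
    have h2 : (2 : F) = 0 := by
      by_contra h2
      refine hg (c / 2) fun x => ?_
      have := hc x
      rw [hgi] at this
      rw [← smul_right_injective (I4 → F) h2 |>.eq_iff, smul_smul, mul_div_cancel₀ _ h2, ← this]
      module
    have hgg : ∀ x, act g (act g x) = x := fun x => by
      have := act_inv_act g x
      rwa [hgi] at this
    obtain ⟨a, ha⟩ : ∃ a, act g a ≠ a := by
      by_contra hne'
      push Not at hne'
      exact hg 1 fun x => by rw [hne' x, one_smul]
    obtain ⟨y₀, hy₀⟩ := exists_dual (sub_ne_zero.2 ha)
    have hga : ∀ x y, om (act g x) y = om x (act g y) := fun x y => by rw [om_act_left, hgi]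
    have hNN : ∀ x, act g (act g x - x) - (act g x - x) = 0 := fun x => by
      rw [act_sub, hgg]
      rw [show x - act g x - (act g x - x) = (2 : F) • (x - act g x) by module, h2, zero_smul]
    set n := act g y₀ - y₀ with hn
    have hab : om a n = 1 := by
      have := hy₀
      rw [om_sub_right, ← hga, om_swap a (act g y₀), om_swap a y₀] at this
      rw [hn, om_sub_right]
      linear_combination -this - h2
    set k := om a y₀ with hk
    have key : ∀ r s : F, r • (act g a - a) + s • n = 0 → r = 0 ∧ s = 0 := by
      intro r s e
      have h1 := congrArg (om a) e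
      simp only [om_add_right, om_smul_right, om_zero_right, hab] at h1
      rw [om_sub_right, hv, om_self, sub_zero, mul_zero, zero_add, mul_one] at h1
      refine ⟨?_, h1⟩
      rw [h1, zero_smul, add_zero] at e
      have h3 := congrArg (om y₀) e
      rw [om_smul_right, hy₀, om_zero_right, mul_one] at h3
      exact h3
    have hbN : ∀ r s : F, act g (r • a + s • (y₀ - k • n)) - (r • a + s • (y₀ - k • n)) =
        r • (act g a - a) + s • n := by
      intro r s
      have := hNN y₀
      rw [← hn] at this
      simp only [act_add, act_sub, act_smul]
      linear_combination (norm := module) (-(s * k)) • this + s • hn.symm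
    refine good_of_plane h g a (y₀ - k • n) ?_ ?_ ?_ ?_
    · rw [om_sub_right, om_smul_right, hab, mul_one, sub_self]
    · linear_combination hpol a (y₀ - k • n) - om (y₀ - k • n) (act g a) * h2
    · intro r s e
      refine key r s ?_
      rw [← hbN, e, act_zero, sub_zero]
    · intro r s x y e
      have e2 := congrArg (fun z => act g z - z) e
      simp only [hbN] at e e2
      have h0 : act g (r • (act g a - a) + s • n) - (r • (act g a - a) + s • n) = 0 := by
        simp only [act_add, act_smul]
        have h' := hNN y₀
        rw [← hn] at h'
        linear_combination (norm := module) r • hNN a + s • h'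
      rw [h0] at e2
      obtain ⟨hx, hy⟩ := key x y e2.symm
      rw [hx, hy, zero_smul, zero_smul, add_zero, ← hbN, sub_eq_zero] at e
      exact e

end CfsgLib.SpFourSq
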