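import Cfsg.Agent.Lib.Classical.SpFourSquare.Basic

/-!
`Sp₄`: an element moving a suitable Lagrangian plane is a product of two conjugates of `D`.
-/

set_option autoImplicit false
set_option linter.unusedSectionVars false
set_option linter.unusedSimpArgs false

namespace CfsgLib.SpFourSq

open Matrix

variable {F : Type*} [Field F]

/-- The symplectic form on vectors. -/
def om (x y : I4 → F) : F := x ⬝ᵥ Matrix.J (Fin 2) F *ᵥ y

theorem om_apply (x y : I4 → F) :
    om x y = x (.inr 0) * y (.inl 0) + x (.inr 1) * y (.inl 1)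
      - x (.inl 0) * y (.inr 0) - x (.inl 1) * y (.inr 1) := by
  simp [om, Matrix.J, Matrix.fromBlocks_mulVec, dotProduct, Fin.sum_univ_two]
  ring

theorem om_self (x : I4 → F) : om x x = 0 := by rw [om_apply]; ring
theorem om_swap (x y : I4 → F) : om y x = -om x y := by rw [om_apply, om_apply]; ring
theorem om_add_left (x y z : I4 → F) : om (x + y) z = om x z + om y z := by
  simp [om_apply]; ring
theorem om_add_right (x y z : I4 → F) : om z (x + y) = om z x + om z y := by
  simp [om_apply]; ring
theorem om_smul_left (c : F) (x z : I4 → F) : om (c • x) z = c * om x z := by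
  simp [om_apply]; ring
theorem om_smul_right (c : F) (x z : I4 → F) : om z (c • x) = c * om z x := by
  simp [om_apply]; ring
theorem om_neg_left (x z : I4 → F) : om (-x) z = -om x z := by simp [om_apply]; ring
theorem om_neg_right (x z : I4 → F) : om z (-x) = -om z x := by simp [om_apply]; ring
theorem om_sub_left (x y z : I4 → F) : om (x - y) z = om x z - om y z := by
  simp [om_apply]; ring
theorem om_sub_right (x y z : I4 → F) : om z (x - y) = om z x - om z y := by
  simp [om_apply]; ring
theorem om_zero_left (z : I4 → F) : om 0 z = 0 := by simp [om_apply]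
theorem om_zero_right (z : I4 → F) : om z 0 = 0 := by simp [om_apply]

/-- The action on vectors. -/
def act (g : Sp4 F) (x : I4 → F) : I4 → F := mx g *ᵥ x

theorem act_mul (g h : Sp4 F) (x : I4 → F) : act (g * h) x = act g (act h x) := by
  simp [act, mulVec_mulVec]
theorem act_one (x : I4 → F) : act (1 : Sp4 F) x = x := by simp [act, mx_one]
theorem act_inv_act (g : Sp4 F) (x : I4 → F) : act g⁻¹ (act g x) = x := by
  rw [← act_mul, inv_mul_cancel, act_one]
theorem act_act_inv (g : Sp4 F) (x : I4 → F) : act g (act g⁻¹ x) = x := by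
  rw [← act_mul, mul_inv_cancel, act_one]
theorem act_add (g : Sp4 F) (x y : I4 → F) : act g (x + y) = act g x + act g y := mulVec_add ..
theorem act_sub (g : Sp4 F) (x y : I4 → F) : act g (x - y) = act g x - act g y := mulVec_sub ..
theorem act_smul (g : Sp4 F) (c : F) (x : I4 → F) : act g (c • x) = c • act g x := mulVec_smul ..
theorem act_zero (g : Sp4 F) : act g (0 : I4 → F) = 0 := mulVec_zero _

theorem om_act (g : Sp4 F) (x y : I4 → F) : om (act g x) (act g y) = om x y := by
  have h : (mx g)ᵀ * Matrix.J (Fin 2) F * mx g = Matrix.J (Fin 2) F := SymplecticGroup.mem_iff'.1 g.2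
  unfold om act
  rw [mulVec_mulVec, ← vecMul_transpose, ← dotProduct_mulVec, mulVec_mulVec, ← Matrix.mul_assoc, h]

theorem om_act_left (g : Sp4 F) (x y : I4 → F) : om (act g x) y = om x (act g⁻¹ y) := by
  conv_lhs => rw [← act_act_inv g y]
  rw [om_act]

/-- The negative of an element. -/
def negS (g : Sp4 F) : Sp4 F := ⟨-mx g, SymplecticGroup.neg_mem g.2⟩

theorem act_negS (g : Sp4 F) (x : I4 → F) : act (negS g) x = -act g x := by
  simp [act, negS, neg_mulVec]

theorem negS_inv (g : Sp4 F) : (negS g)⁻¹ = negS g⁻¹ := by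
  refine inv_eq_of_mul_eq_one_right (mx_inj ?_)
  rw [mx_mul]
  show (-mx g) * (-mx g⁻¹) = mx 1
  rw [Matrix.neg_mul, Matrix.mul_neg, neg_neg, ← mx_mul, mul_inv_cancel]

theorem eq_of_act {g h : Sp4 F} (e : ∀ x, act g x = act h x) : g = h :=
  mx_inj (Matrix.ext_of_mulVec_single fun i => e _)

theorem exists_dual {x : I4 → F} (hx : x ≠ 0) : ∃ y, om y x = 1 := by
  by_contra hne
  push Not at hne
  apply hx
  have h0 : ∀ y, om y x = 0 := fun y => by
    by_contra h
    exact hne ((om y x)⁻¹ • y) (by rw [om_smul_left, inv_mul_cancel₀ h])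
  funext i
  have h1 := h0 (Pi.single (Sum.inr 0) 1)
  have h2 := h0 (Pi.single (Sum.inr 1) 1)
  have h3 := h0 (Pi.single (Sum.inl 0) 1)
  have h4 := h0 (Pi.single (Sum.inl 1) 1)
  rcases i with i | i <;> fin_cases i <;> simp [om_apply] at h1 h2 h3 h4 ⊢ <;> assumption

/-- A symplectic matrix with prescribed columns. -/
theorem exists_frame {a b f₁ f₂ : I4 → F} (h12 : om a b = 0) (h11 : om f₁ a = 1) (h22 : om f₂ b = 1)
    (h1b : om f₁ b = 0) (h2a : om f₂ a = 0) (hff : om f₁ f₂ = 0) :
    ∃ M : Sp4 F, act M (Pi.single (.inl 0) 1) = a ∧ act M (Pi.single (.inl 1) 1) = b ∧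
      act M (Pi.single (.inr 0) 1) = f₁ ∧ act M (Pi.single (.inr 1) 1) = f₂ := by
  let c : I4 → I4 → F := Sum.elim ![a, b] ![f₁, f₂]
  let M : Matrix I4 I4 F := Matrix.of fun i j => c j i
  have hM : M ∈ symplecticGroup (Fin 2) F := by
    rw [SymplecticGroup.mem_iff']
    ext i j
    have e : (Mᵀ * Matrix.J (Fin 2) F * M) i j = om (c i) (c j) := by
      rw [Matrix.mul_assoc]
      simp only [Matrix.mul_apply, om, dotProduct, mulVec, transpose_apply, M, of_apply]
    rw [e]
    rcases i with i | i <;> rcases j with j | j <;> fin_cases i <;> fin_cases j <;>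
      simp [c, Matrix.J, om_self, om_swap a b, h12, om_swap f₁ a, h11, om_swap f₂ b, h22,
        om_swap f₁ b, h1b, om_swap f₂ a, h2a, om_swap f₁ f₂, hff]
  refine ⟨⟨M, hM⟩, ?_, ?_, ?_, ?_⟩ <;>
    · funext i
      simp [act, M, c]

/-- Extending an isotropic independent pair. -/
theorem exists_frame_of_pair {a b : I4 → F} (h12 : om a b = 0)
    (hind : ∀ r s : F, r • a + s • b = 0 → r = 0 ∧ s = 0) :
    ∃ M : Sp4 F, act M (Pi.single (.inl 0) 1) = a ∧ act M (Pi.single (.inl 1) 1) = b := by
  let φ : (I4 → F) →ₗ[F] (Fin 2 → F) :=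
    { toFun := fun y => ![om y a, om y b]
      map_add' := fun x y => by ext i; fin_cases i <;> simp [om_add_left]
      map_smul' := fun c x => by ext i; fin_cases i <;> simp [om_smul_left] }
  have hsurj : Function.Surjective φ := by
    rw [← LinearMap.range_eq_top]
    by_contra hne
    obtain ⟨ψ, hψ, hle⟩ := Submodule.exists_le_ker_of_lt_top _ (lt_top_iff_ne_top.2 hne)
    have key : ψ ![1, 0] • a + ψ ![0, 1] • b = 0 := by
      by_contra h0
      obtain ⟨y, hy⟩ := exists_dual h0
      have : ψ (φ y) = 0 := hle ⟨y, rfl⟩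
      rw [show φ y = om y a • ![1, 0] + om y b • ![(0 : F), 1] by
        ext i; fin_cases i <;> simp [φ], map_add, map_smul, map_smul, smul_eq_mul, smul_eq_mul]
        at this
      rw [om_add_right, om_smul_right, om_smul_right] at hy
      exact one_ne_zero (α := F) (by linear_combination this - hy)
    obtain ⟨k1, k2⟩ := hind _ _ key
    apply hψ
    refine LinearMap.ext fun v => ?_
    rw [show v = v 0 • ![(1 : F), 0] + v 1 • ![(0 : F), 1] by ext i; fin_cases i <;> simp,
      map_add, map_smul, map_smul, k1, k2]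
    simp
  obtain ⟨f₁, hf₁⟩ := hsurj ![1, 0]
  obtain ⟨f₂, hf₂⟩ := hsurj ![0, 1]
  have a1 := congrFun hf₁ 0
  have b1 := congrFun hf₁ 1
  have a2 := congrFun hf₂ 0
  have b2 := congrFun hf₂ 1
  simp [φ] at a1 b1 a2 b2
  obtain ⟨M, h1, h2, -⟩ := exists_frame (f₁ := f₁) (f₂ := f₂ + -(om f₁ f₂) • a) h12 a1
    (by rw [om_add_left, om_smul_left, b2, h12, mul_zero, add_zero]) b1
    (by rw [om_add_left, om_smul_left, a2, om_self, mul_zero, add_zero])
    (by rw [om_add_right, om_smul_right, a1, mul_one, add_neg_cancel])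
  exact ⟨M, h1, h2⟩

/-- A symmetric solution of `X R = N`. -/
theorem exists_sym_mul {R N : Matrix (Fin 2) (Fin 2) F} (hR : Rᵀ = R) (hN : Nᵀ * R = R * N)
    (hker : ∀ u, R *ᵥ u = 0 → N *ᵥ u = 0) :
    ∃ X : Matrix (Fin 2) (Fin 2) F, Xᵀ = X ∧ X * R = N := by
  by_cases hd : IsUnit R.det
  · refine ⟨N * R⁻¹, ?_, by rw [Matrix.mul_assoc, nonsing_inv_mul _ hd, Matrix.mul_one]⟩
    calc (N * R⁻¹)ᵀ = R⁻¹ * Nᵀ := by rw [transpose_mul, transpose_nonsing_inv, hR]
      _ = R⁻¹ * (Nᵀ * R) * R⁻¹ := by simp [Matrix.mul_assoc, mul_nonsing_inv _ hd]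
      _ = N * R⁻¹ := by rw [hN, ← Matrix.mul_assoc, nonsing_inv_mul _ hd, Matrix.one_mul]
  · have hd0 : R 0 0 * R 1 1 - R 0 1 * R 1 0 = 0 := by
      rw [← det_fin_two]; by_contra h; exact hd (isUnit_iff_ne_zero.2 h)
    have e10 : R 1 0 = R 0 1 := congrFun (congrFun hR 0) 1
    rw [e10] at hd0
    by_cases hp : R 0 0 = 0
    · have hq : R 0 1 = 0 := by
        rw [hp] at hd0
        exact mul_self_eq_zero.1 (by linear_combination -hd0)
      have k0 := hker ![1, 0] (by
        ext i; fin_cases i <;> simp [mulVec, dotProduct, Fin.sum_univ_two, hp, hq, e10])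
      have n00 := congrFun k0 0
      have n10 := congrFun k0 1
      simp [mulVec, dotProduct, Fin.sum_univ_two] at n00 n10
      by_cases hr : R 1 1 = 0
      · have k1 := hker ![0, 1] (by
          ext i; fin_cases i <;> simp [mulVec, dotProduct, Fin.sum_univ_two, hr, hq])
        have n01 := congrFun k1 0
        have n11 := congrFun k1 1
        simp [mulVec, dotProduct, Fin.sum_univ_two] at n01 n11
        refine ⟨0, by simp, ?_⟩
        ext i j
        fin_cases i <;> fin_cases j <;> simp [n00, n10, n01, n11]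
      · refine ⟨!![0, N 0 1 / R 1 1; N 0 1 / R 1 1, N 1 1 / R 1 1], ?_, ?_⟩
        · ext i j; fin_cases i <;> fin_cases j <;> simp
        · ext i j
          fin_cases i <;> fin_cases j <;>
            simp [Matrix.mul_apply, Fin.sum_univ_two, hp, hq, e10, n00, n10, hr]
    · have k0 := hker ![-R 0 1, R 0 0] (by
        ext i; fin_cases i <;> simp [mulVec, dotProduct, Fin.sum_univ_two, e10]
        · ring
        · linear_combination hd0)
      have e0 := congrFun k0 0
      have e1 := congrFun k0 1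
      simp [mulVec, dotProduct, Fin.sum_univ_two] at e0 e1
      refine ⟨!![(N 0 0 - R 0 1 * (N 1 0 / R 0 0)) / R 0 0, N 1 0 / R 0 0; N 1 0 / R 0 0, 0], ?_, ?_⟩
      · ext i j; fin_cases i <;> fin_cases j <;> simp
      · ext i j
        fin_cases i <;> fin_cases j <;> simp [Matrix.mul_apply, Fin.sum_univ_two, e10] <;> field_simp
        · ring
        · linear_combination (N 1 0) * hd0 - R 0 0 * e0
        · linear_combination -e1

theorem act_inl (g : Sp4 F) (u : Fin 2 → F) (i : I4) :
    act g (Sum.elim u 0) i = mx g i (.inl 0) * u 0 + mx g i (.inl 1) * u 1 := by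
  simp [act, mulVec, dotProduct, Fintype.sum_sum_type, Fin.sum_univ_two]

theorem om_single_act (g : Sp4 F) (i j : Fin 2) :
    om (Pi.single (.inl i) 1) (act g (Pi.single (.inl j) 1)) = -(mx g).toBlocks₂₁ i j := by
  fin_cases i <;> simp [om_apply, act, toBlocks₂₁]

/-- The geometric criterion. -/
theorem good_of_plane [Finite F] {t d : F} (h : Param t d) (g : Sp4 F) (a b : I4 → F)
    (h12 : om a b = 0) (hcomm : om a (act g b) = om b (act g a))
    (hind : ∀ r s : F, r • a + s • b = 0 → r = 0 ∧ s = 0)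
    (hfix : ∀ r s x y : F, act g (r • a + s • b) - (r • a + s • b) = x • a + y • b →
      act g (r • a + s • b) = r • a + s • b) :
    Good h g := by
  obtain ⟨M, ha, hb⟩ := exists_frame_of_pair h12 hind
  suffices hg : Good h (M⁻¹ * g * M) by
    have := hg.conj M
    simpa [mul_assoc] using this
  set k := M⁻¹ * g * M with hk
  set P := (mx k).toBlocks₁₁ with hP
  set R := (mx k).toBlocks₂₁ with hR
  have hMk : ∀ x, act M (act k x) = act g (act M x) := fun x => by
    rw [← act_mul, ← act_mul, hk]; congr 1; group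
  have hRs : Rᵀ = R := by
    have e := om_single_act k 0 1
    have e' := om_single_act k 1 0
    rw [← om_act M, hMk, ha, hb] at e e'
    have : R 0 1 = R 1 0 := by
      rw [← neg_inj, hR, ← e, ← e', hcomm]
    ext i j
    fin_cases i <;> fin_cases j <;> simp [this]
  have hker : ∀ u, R *ᵥ u = 0 → (P - 1) *ᵥ u = 0 := by
    intro u hu
    have hu' : act M (Sum.elim u 0) = u 0 • a + u 1 • b := by
      rw [← ha, ← hb, ← act_smul, ← act_smul, ← act_add]
      congr 1
      funext i
      rcases i with i | i <;> fin_cases i <;> simp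
    have hk' : act k (Sum.elim u 0) = Sum.elim (P *ᵥ u) 0 := by
      funext i
      rw [act_inl]
      rcases i with i | i
      · fin_cases i <;> simp [hP, toBlocks₁₁, mulVec, dotProduct, Fin.sum_univ_two]
      · have := congrFun hu i
        simp [hR, toBlocks₂₁, mulVec, dotProduct, Fin.sum_univ_two] at this
        simpa using this
    have hg' : act g (u 0 • a + u 1 • b) = (P *ᵥ u) 0 • a + (P *ᵥ u) 1 • b := by
      rw [← hu', ← hMk, hk', ← ha, ← hb, ← act_smul, ← act_smul, ← act_add]
      congr 1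
      funext i
      rcases i with i | i <;> fin_cases i <;> simp
    have := hfix (u 0) (u 1) ((P *ᵥ u) 0 - u 0) ((P *ᵥ u) 1 - u 1) (by rw [hg']; module)
    rw [hg'] at this
    have h0 := hind ((P *ᵥ u) 0 - u 0) ((P *ᵥ u) 1 - u 1) (by
      linear_combination (norm := module) this)
    rw [sub_mulVec, one_mulVec]
    funext i
    fin_cases i
    · simpa using h0.1
    · simpa using h0.2
  have s1 : Pᵀ * R = Rᵀ * P := (blocks_spec k).1
  obtain ⟨X, hX, hXR⟩ := exists_sym_mul (N := P - 1) hRs (by
    rw [transpose_sub, transpose_one, Matrix.sub_mul, Matrix.mul_sub, Matrix.one_mul, Matrix.mul_one,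
      s1, hRs]) hker
  let U : Sp4 F := ofBlocks 1 (-X) 0 1 ⟨by simp, by simp [hX], by simp⟩
  let U' : Sp4 F := ofBlocks 1 X 0 1 ⟨by simp, by simp [hX], by simp⟩
  have hUU : U * U' = 1 := mx_inj (by
    simp [mx_mul, U, U', mx_one, fromBlocks_multiply, fromBlocks_one])
  have hP1 : (mx (U * k * U⁻¹)).toBlocks₁₁ = 1 := by
    rw [inv_eq_of_mul_eq_one_right hUU, mx_mul, mx_mul, eq_fromBlocks k, ← hP, ← hR]
    simp [U, U', fromBlocks_multiply, hXR]
  have hG : Good h (U * k * U⁻¹) :=
    good_of_block h (by rw [hP1, det_one]) (by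
      rw [hP1, adjugate_one, Matrix.one_mul]; simp [cmp, trace_fin_two])
  have := hG.conj U⁻¹
  simpa [mul_assoc] using this

end CfsgLib.SpFourSq
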